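import Cfsg.Agent.H511.Ore.Reach

/-!
# ORE (S2443), T1: the predicate `T1 G K` (helper511)

* `T1 G K` : the elements with `|C(g)| ≤ K` are commutators; `T1.congr`, `T1.mono`, `T1.of_data`;
* `minDeg_zero`, `noDeg_nil`, `MinDeg.congr`.
-/

set_option autoImplicit false

open Cfsg Subgroup

namespace Cfsg.Agent.H511.Ore

open Cfsg.Agent.H653.Sieve Cfsg.Agent.H651.Two Cfsg.Agent.H777.Ore

universe u v

/-- the elements with `|C(g)| ≤ K` are commutators -/
def T1 (G : Type u) [Group G] (K : ℕ) : Prop :=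
  ∀ g : G, Nat.card (centralizer ({g} : Set G)) ≤ K → IsC g

theorem T1.mono {G : Type u} [Group G] {K K' : ℕ} (h : T1 G K) (hK : K' ≤ K) : T1 G K' :=
  fun g hg => h g (hg.trans hK)

theorem card_centralizer_congr {G : Type u} {H : Type v} [Group G] [Group H] (e : G ≃* H) (g : G) :
    Nat.card (centralizer ({e g} : Set H)) = Nat.card (centralizer ({g} : Set G)) := by
  refine (Nat.card_congr (Equiv.subtypeEquiv e.toEquiv fun x => ?_)).symm
  rw [mem_centralizer_singleton_iff, mem_centralizer_singleton_iff]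
  change x * g = g * x ↔ e x * e g = e g * e x
  rw [← map_mul, ← map_mul, e.injective.eq_iff]

theorem T1.congr {G : Type u} {H : Type v} [Group G] [Group H] {K : ℕ} (e : G ≃* H) (h : T1 H K) : T1 G K := by
  intro g hg
  have h1 := h (e g) (by rwa [card_centralizer_congr])
  have h2 := IsC.map e.symm.toMonoidHom h1
  simpa using h2

theorem minDeg_zero {G : Type u} [Group G] : MinDeg G 0 := fun _ _ => Nat.zero_le _

theorem noDeg_nil {G : Type u} [Group G] : NoDeg G [] := fun _ h => by simp at h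

/-- **The row theorem in terms of `T1`.** -/
theorem T1.of_data {G : Type u} [Group G] [Finite G] [IsSimpleGroup G] (hG : ¬ IsMulCommutative G) (N : ℕ)
    (hN : Nat.card G = N) (L : List (ℕ × ℕ)) (hL : (L.all fun pa => Nat.Prime pa.1) = true) (hLN : facProd L = N)
    (cd : List CD) (hcd : (cd.all (CD.ok N)) = true) (hx : ∀ d ∈ cd, d.Has G) {m D : ℕ} {ex : List ℕ}
    (hm : MinDeg G m) (hex : NoDeg G ex) (c : CD) (hc : c ∈ cd) (hk : c.k = 1)
    (h : allDiv (D * D) (tst c.r m ex cd) L 1 = true) {K : ℕ} (hK : K * s4 c.r c.e c.t < 8 * (D * D)) : T1 G K :=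
  fun _ hg => isC_of_data hG N hN L hL hLN cd hcd hx hm hex c hc hk h K hK hg

end Cfsg.Agent.H511.Ore
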