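import Cfsg.Agent.H511.Ore.Weight

/-!
# ORE (S2443), T1: the weighted row theorem (helper511)

* `DegOn G P d` : the nontrivial irreducible characters with `P (χ(1))` have degree at least `d`; `degOn_of_check`;
* `T1.of_weight` : `d₁` for the degrees `± 1` mod `p`, `d₂` for the degrees `± e` mod `p`.
-/

set_option autoImplicit false

open Cfsg Subgroup

namespace Cfsg.Agent.H511.Ore

open Cfsg.Agent.H653.Sieve Cfsg.Agent.H651.Two Cfsg.Agent.Characters.Core Cfsg.Agent.H777.Ore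
open Cfsg.Agent.SmallSimple.ThetaSetup Cfsg.Agent.SmallSimple.PrimeLocal

universe u

/-- the nontrivial irreducible characters with `P (χ(1))` have degree at least `d` -/
def DegOn (G : Type u) [Group G] (P : ℕ → Bool) (d : ℕ) : Prop :=
  ∀ χ : IrrCharacter G, (χ : G → ℂ) ≠ 1 → P (charDegree (χ : G → ℂ)) = true → d ≤ charDegree (χ : G → ℂ)

/-- the check function -/
def tstOn (P : ℕ → Bool) (m : ℕ) (ex : List ℕ) (cd : List CD) (d : ℕ) : Bool :=
  bif Nat.ble d 1 then true else bif Nat.ble m d then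
    (bif P d then
      bif (cd.any fun c => !(c.wl.any fun rw => Nat.beq (d % c.r) rw.1)) then true else ex.any fun x => Nat.beq d x
      else true)
    else true

/-- the degrees of the non-exceptional characters -/
def pNE (p d : ℕ) : Bool := Nat.beq (d % p) 1 || Nat.beq (d % p) (p - 1)

/-- the degrees of the exceptional characters -/
def pX (p e d : ℕ) : Bool := Nat.beq (d % p) e || Nat.beq (d % p) (p - e)

variable {G : Type u} [Group G] [Finite G]

/-- **The degree sieve, on a set of degrees.** -/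
theorem degOn_of_check [IsSimpleGroup G] (hG : ¬ IsMulCommutative G) (N : ℕ) (hN : Nat.card G = N)
    (L : List (ℕ × ℕ)) (hL : (L.all fun pa => Nat.Prime pa.1) = true) (hLN : facProd L = N) (cd : List CD)
    (hcd : (cd.all (CD.ok N)) = true) (hx : ∀ d ∈ cd, d.Has G) {P : ℕ → Bool} {m D : ℕ} {ex : List ℕ}
    (hm : MinDeg G m) (hex : NoDeg G ex) (h : allDiv (D * D) (tstOn P m ex cd) L 1 = true) : DegOn G P D := by
  intro χ hχ hp
  by_contra hlt
  push Not at hlt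
  set d := charDegree (χ : G → ℂ) with hd
  have h1 : d ∣ facProd L := by rw [hLN, ← hN]; exact charDegree_dvd χ
  have hL' : ∀ pa ∈ L, pa.1.Prime := fun pa hpa => of_decide_eq_true (List.all_eq_true.1 hL pa hpa)
  have h2 := allDiv_spec hL' h d h1 (by rw [one_mul]; exact Nat.mul_lt_mul'' hlt hlt)
  rw [one_mul] at h2
  have h3 : 2 ≤ d := two_le_charDegree hG χ hχ
  have h4 : Nat.ble d 1 = false := by
    rw [Bool.eq_false_iff]; intro h; have := Nat.le_of_ble_eq_true h; omega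
  have h5 : Nat.ble m d = true := Nat.ble_eq_true_of_le (hm χ hχ)
  have h7 : (cd.any fun c => !(c.wl.any fun rw => Nat.beq (d % c.r) rw.1)) = false := by
    rw [Bool.eq_false_iff]
    intro h
    obtain ⟨c, hc, h8⟩ := List.any_eq_true.1 h
    have h9 := res_of_has hG hN (hx c hc) (List.all_eq_true.1 hcd c hc) χ
    rw [← hd] at h9
    rw [h9] at h8
    exact absurd h8 (by decide)
  have h8 : (ex.any fun x => Nat.beq d x) = false := by
    rw [Bool.eq_false_iff]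
    intro h
    obtain ⟨x, hx, h9⟩ := List.any_eq_true.1 h
    exact hex χ (by rw [← hd, Nat.eq_of_beq_eq_true h9]; exact hx)
  rw [tstOn, h4, h5, hp, h7, h8] at h2
  exact absurd h2 (by decide)

/-- **The weight of an element of the data.** -/
theorem weight_of_has [IsSimpleGroup G] [Fintype (IrrCharacter G)] (hG : ¬ IsMulCommutative G) {N : ℕ}
    (hN : Nat.card G = N) {c : CD} (hc : c.Has G) (hk : c.k = 1) (hok : c.ok N = true) {d₁ d₂ : ℕ}
    (h1 : DegOn G (pNE c.r) d₁) (h2 : DegOn G (pX c.r c.e) d₂) (h10 : 0 < d₁) (h20 : 0 < d₂) :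
    ∃ x : G, orderOf x = c.r ∧ ∑ χ : IrrCharacter G, ‖(χ : G → ℂ) x‖ ^ 4 / (charDegree (χ : G → ℂ) : ℝ) ^ 2 ≤
      1 + (((c.e : ℝ) - 1) / (d₁ : ℝ) ^ 2 + (s4x c.r c.e c.t : ℝ) / (8 * (d₂ : ℝ) ^ 2)) := by
  classical
  obtain ⟨hr, x, hx, hcx⟩ := hc
  have : Fact c.r.Prime := ⟨hr⟩
  obtain ⟨P, hP, hPx, hp2, ht, he, hCP⟩ := exists_sylow hG hN hx hcx c.e c.t c.wl c.c c.b hok
  have hxP : x ∈ P := by
    have : x ∈ (P : Subgroup G) := by rw [hPx]; exact mem_zpowers x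
    exact this
  have hx1 : x ≠ 1 := by rintro rfl; rw [orderOf_one] at hx; exact hr.one_lt.ne hx
  have hC : centralizer (P : Set G) = (P : Subgroup G) := by
    symm
    apply Subgroup.eq_of_le_of_card_ge (le_centralizer hP)
    have h3 : Nat.card (centralizer (P : Set G)) = c.r * c.k := hCP
    have h4 : Nat.card (P : Subgroup G) = c.r := hP
    rw [h3, hk, mul_one, h4]
  obtain ⟨NE, X, hdis, hNE, hX, ⟨χ₁, hχ₁, hχ₁'⟩, hne, hxe, hs, h0⟩ := split hp2 hP hC he ht hxP hx1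
  refine ⟨x, hx, ?_⟩
  have hd1 : charDegree (χ₁ : G → ℂ) = 1 := by
    rw [hχ₁']
    unfold charDegree
    simp
  have huniq : ∀ χ : IrrCharacter G, χ ≠ χ₁ → (χ : G → ℂ) ≠ 1 := fun χ h h' => h (Subtype.ext (h'.trans hχ₁'.symm))
  have hD1 : (0 : ℝ) < d₁ := by exact_mod_cast h10
  have hD2 : (0 : ℝ) < d₂ := by exact_mod_cast h20
  have hsplit : ∑ χ : IrrCharacter G, ‖(χ : G → ℂ) x‖ ^ 4 / (charDegree (χ : G → ℂ) : ℝ) ^ 2 =
      ∑ χ ∈ NE, ‖(χ : G → ℂ) x‖ ^ 4 / (charDegree (χ : G → ℂ) : ℝ) ^ 2 +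
      ∑ χ ∈ X, ‖(χ : G → ℂ) x‖ ^ 4 / (charDegree (χ : G → ℂ) : ℝ) ^ 2 := by
    rw [← Finset.sum_union hdis]
    symm
    refine Finset.sum_subset (Finset.subset_univ _) fun χ _ hχ => ?_
    rw [Finset.mem_union, not_or] at hχ
    rw [h0 χ hχ.1 hχ.2]
    simp
  rw [hsplit, ← Finset.add_sum_erase _ _ hχ₁, hd1, hχ₁']
  simp only [Pi.one_apply, norm_one, one_pow, Nat.cast_one, div_one]
  have hA : ∑ χ ∈ NE.erase χ₁, ‖(χ : G → ℂ) x‖ ^ 4 / (charDegree (χ : G → ℂ) : ℝ) ^ 2 ≤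
      ((c.e : ℝ) - 1) / (d₁ : ℝ) ^ 2 := by
    have hcard : ((NE.erase χ₁).card : ℝ) = (c.e : ℝ) - 1 := by
      rw [Finset.card_erase_of_mem hχ₁, hNE, Nat.cast_sub, Nat.cast_one]
      rw [← hNE]
      exact Finset.card_pos.2 ⟨χ₁, hχ₁⟩
    rw [← hcard, div_eq_mul_one_div, ← nsmul_eq_mul]
    refine Finset.sum_le_card_nsmul _ _ _ fun χ hχ => ?_
    obtain ⟨hn1, hn2⟩ := hne χ (Finset.mem_of_mem_erase hχ)
    have hP : pNE c.r (charDegree (χ : G → ℂ)) = true := by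
      rw [pNE, Bool.or_eq_true]
      exact hn2.imp (fun h => by rw [h]; exact Nat.beq_refl _) fun h => by rw [h]; exact Nat.beq_refl _
    have h3 : (d₁ : ℝ) ≤ charDegree (χ : G → ℂ) := by
      exact_mod_cast h1 χ (huniq χ (Finset.ne_of_mem_erase hχ)) hP
    rw [hn1, one_pow]
    exact div_le_div_of_nonneg_left zero_le_one (by positivity) (pow_le_pow_left₀ hD1.le h3 2)
  have hB : ∑ χ ∈ X, ‖(χ : G → ℂ) x‖ ^ 4 / (charDegree (χ : G → ℂ) : ℝ) ^ 2 ≤
      (s4x c.r c.e c.t : ℝ) / (8 * (d₂ : ℝ) ^ 2) := by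
    have h3 : ∑ χ ∈ X, ‖(χ : G → ℂ) x‖ ^ 4 / (charDegree (χ : G → ℂ) : ℝ) ^ 2 ≤
        ∑ χ ∈ X, ‖(χ : G → ℂ) x‖ ^ 4 / (d₂ : ℝ) ^ 2 := by
      refine Finset.sum_le_sum fun χ hχ => ?_
      have hP : pX c.r c.e (charDegree (χ : G → ℂ)) = true := by
        rw [pX, Bool.or_eq_true]
        exact (hxe χ hχ).imp (fun h => by rw [h]; exact Nat.beq_refl _) fun h => by rw [h]; exact Nat.beq_refl _
      have hχ1 : χ ≠ χ₁ := by
        rintro rfl
        exact (Finset.disjoint_left.1 hdis hχ₁) hχ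
      have h4 : (d₂ : ℝ) ≤ charDegree (χ : G → ℂ) := by exact_mod_cast h2 χ (huniq χ hχ1) hP
      exact div_le_div_of_nonneg_left (by positivity) (by positivity) (pow_le_pow_left₀ hD2.le h4 2)
    refine h3.trans ?_
    rw [← Finset.sum_div, div_le_div_iff₀ (by positivity) (by positivity)]
    nlinarith [sq_nonneg (d₂ : ℝ), hs, mul_le_mul_of_nonneg_right hs (sq_nonneg (d₂ : ℝ))]
  linarith

/-- **T1, the weighted row theorem.** -/
theorem T1.of_weight [IsSimpleGroup G] (hG : ¬ IsMulCommutative G) (N : ℕ) (hN : Nat.card G = N) (c : CD)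
    (hc : c.Has G) (hk : c.k = 1) (hok : c.ok N = true) {d₁ d₂ : ℕ}
    (h1 : DegOn G (pNE c.r) d₁) (h2 : DegOn G (pX c.r c.e) d₂) (h10 : 0 < d₁) (h20 : 0 < d₂) {K : ℕ}
    (hK : K * (8 * (c.e - 1) * d₂ ^ 2 + s4x c.r c.e c.t * d₁ ^ 2) < 8 * d₁ ^ 2 * d₂ ^ 2) : T1 G K := by
  intro g hg
  have : Finite (IrrCharacter G) := finite_irr
  have := Fintype.ofFinite (IrrCharacter G)
  obtain ⟨x, -, hW⟩ := weight_of_has hG hN hc hk hok h1 h2 h10 h20
  refine isC_of_weight hW ?_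
  have he : 1 ≤ c.e := by
    simp only [CD.ok, numOK, Bool.and_eq_true, bne_iff_ne, beq_iff_eq, ne_eq] at hok
    have hr := hc.1.two_le
    rcases Nat.eq_zero_or_pos c.e with h | h
    · have := hok.1.1.1.2
      rw [h, zero_mul] at this
      omega
    · exact h
  have hD1 : (0 : ℝ) < d₁ := by exact_mod_cast h10
  have hD2 : (0 : ℝ) < d₂ := by exact_mod_cast h20
  have h3 : (Nat.card (centralizer ({g} : Set G)) : ℝ) ≤ K := by exact_mod_cast hg
  have h4 : ((K * (8 * (c.e - 1) * d₂ ^ 2 + s4x c.r c.e c.t * d₁ ^ 2) : ℕ) : ℝ) < ((8 * d₁ ^ 2 * d₂ ^ 2 : ℕ) : ℝ) := by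
    exact_mod_cast hK
  rw [Nat.cast_mul, Nat.cast_add, Nat.cast_mul, Nat.cast_mul, Nat.cast_sub he] at h4
  push_cast at h4
  have hW0 : 0 ≤ ((c.e : ℝ) - 1) / (d₁ : ℝ) ^ 2 + (s4x c.r c.e c.t : ℝ) / (8 * (d₂ : ℝ) ^ 2) := by
    have : (0 : ℝ) ≤ (c.e : ℝ) - 1 := by
      have : (1 : ℝ) ≤ c.e := by exact_mod_cast he
      linarith
    positivity
  refine lt_of_le_of_lt (mul_le_mul_of_nonneg_right h3 hW0) ?_
  rw [div_add_div _ _ (by positivity) (by positivity), mul_div_assoc', div_lt_one (by positivity)]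
  nlinarith

end Cfsg.Agent.H511.Ore
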