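import Cfsg.Agent.H651.Two.Data

/-!
# ORE (S2443), T1: the degree sieve (helper511)

* `DegOff G p d` : the nontrivial irreducible characters of degree prime to `p` have degree at least `d`;
* `degOff_of_check` : `DegOff` from the columns of the primes dividing `|G|` exactly once (kernel check).
-/

set_option autoImplicit false

open Cfsg Subgroup

namespace Cfsg.Agent.H511.Ore

open Cfsg.Agent.H653.Sieve Cfsg.Agent.H651.Two Cfsg.Agent.Characters.Core

universe u

/-- the nontrivial irreducible characters of degree prime to `p` have degree at least `d` -/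
def DegOff (G : Type u) [Group G] (p d : ℕ) : Prop :=
  ∀ χ : IrrCharacter G, (χ : G → ℂ) ≠ 1 → ¬ p ∣ charDegree (χ : G → ℂ) → d ≤ charDegree (χ : G → ℂ)

/-- the nontrivial irreducible characters have degree at least `m` -/
def MinDeg (G : Type u) [Group G] (m : ℕ) : Prop :=
  ∀ χ : IrrCharacter G, (χ : G → ℂ) ≠ 1 → m ≤ charDegree (χ : G → ℂ)

/-- the degrees in `ex` do not occur -/
def NoDeg (G : Type u) [Group G] (ex : List ℕ) : Prop :=
  ∀ χ : IrrCharacter G, charDegree (χ : G → ℂ) ∉ ex

/-- `d` is excluded: small, excluded by hand, divisible by `p`, or with a wrong residue. -/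
def tst (p m : ℕ) (ex : List ℕ) (cd : List CD) (d : ℕ) : Bool :=
  bif Nat.ble d 1 then true else bif Nat.ble m d then
    (bif Nat.beq (d % p) 0 then true else
      bif (cd.any fun c => !(c.wl.any fun rw => Nat.beq (d % c.r) rw.1)) then true else ex.any fun x => Nat.beq d x)
    else true

variable {G : Type u} [Group G] [Finite G]

theorem charDegree_dvd (χ : IrrCharacter G) : charDegree (χ : G → ℂ) ∣ Nat.card G :=
  Blocks.Knorr.charDegree_dvd χ.2

/-- the residues of the degrees -/
theorem res_of_has [IsSimpleGroup G] (hG : ¬ IsMulCommutative G) {N : ℕ} (hN : Nat.card G = N) {c : CD}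
    (hc : c.Has G) (hok : c.ok N = true) (χ : IrrCharacter G) :
    (c.wl.any fun rw => Nat.beq (charDegree (χ : G → ℂ) % c.r) rw.1) = true := by
  have : Finite (IrrCharacter G) := finite_irr
  have := Fintype.ofFinite (IrrCharacter G)
  obtain ⟨hr, x, hx, hcx⟩ := hc
  have : Fact c.r.Prime := ⟨hr⟩
  obtain ⟨P, W, -, -, -, hW⟩ := exists_col hG hN hx hcx c.e c.t c.wl c.c c.b hok
  rw [List.any_eq_true]
  exact ⟨_, hW.mem χ, Nat.beq_refl _⟩

theorem two_le_charDegree [IsSimpleGroup G] (hG : ¬ IsMulCommutative G) (χ : IrrCharacter G) (h : (χ : G → ℂ) ≠ 1) :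
    2 ≤ charDegree (χ : G → ℂ) := by
  have hnp : ¬ (Nat.card G).Prime := by
    intro hpr
    have : Fact (Nat.card G).Prime := ⟨hpr⟩
    have hcyc : IsCyclic G := isCyclic_of_prime_card rfl
    exact hG IsCyclic.isMulCommutative
  have : Finite (IrrCharacter G) := finite_irr
  have := Fintype.ofFinite (IrrCharacter G)
  have h0 : charDegree (χ : G → ℂ) ≠ 0 := fun h0 => Nat.card_pos.ne' (Nat.eq_zero_of_zero_dvd (h0 ▸ charDegree_dvd χ))
  have h1 : charDegree (χ : G → ℂ) ≠ 1 := fun h1 => h (one_of_deg hnp χ h1)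
  omega

/-- **The degree sieve.** -/
theorem degOff_of_check [IsSimpleGroup G] (hG : ¬ IsMulCommutative G) (N : ℕ) (hN : Nat.card G = N)
    (L : List (ℕ × ℕ)) (hL : (L.all fun pa => Nat.Prime pa.1) = true) (hLN : facProd L = N) (cd : List CD)
    (hcd : (cd.all (CD.ok N)) = true) (hx : ∀ d ∈ cd, d.Has G) {p m D : ℕ} {ex : List ℕ} (hm : MinDeg G m)
    (hex : NoDeg G ex) (h : allDiv (D * D) (tst p m ex cd) L 1 = true) : DegOff G p D := by
  intro χ hχ hp
  by_contra hlt
  push Not at hlt
  set d := charDegree (χ : G → ℂ) with hd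
  have h1 : d ∣ facProd L := by rw [hLN, ← hN]; exact charDegree_dvd χ
  have hL' : ∀ pa ∈ L, pa.1.Prime := fun pa hpa => of_decide_eq_true (List.all_eq_true.1 hL pa hpa)
  have h2 := allDiv_spec hL' h d h1 (by rw [one_mul]; exact Nat.mul_lt_mul'' hlt hlt)
  rw [one_mul] at h2
  have h3 : 2 ≤ d := two_le_charDegree hG χ hχ
  have h4 : Nat.ble d 1 = false := by
    rw [Bool.eq_false_iff]; intro h; have := Nat.le_of_ble_eq_true h; omega
  have h5 : Nat.ble m d = true := Nat.ble_eq_true_of_le (hm χ hχ)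
  have h6 : Nat.beq (d % p) 0 = false := by
    rw [Bool.eq_false_iff]; intro h; exact hp (Nat.dvd_of_mod_eq_zero (Nat.eq_of_beq_eq_true h))
  have h7 : (cd.any fun c => !(c.wl.any fun rw => Nat.beq (d % c.r) rw.1)) = false := by
    rw [Bool.eq_false_iff]
    intro h
    obtain ⟨c, hc, h8⟩ := List.any_eq_true.1 h
    have h9 := res_of_has hG hN (hx c hc) (List.all_eq_true.1 hcd c hc) χ
    rw [← hd] at h9
    rw [h9] at h8
    exact absurd h8 (by decide)
  have h8 : (ex.any fun x => Nat.beq d x) = false := by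
    rw [Bool.eq_false_iff]
    intro h
    obtain ⟨x, hx, h9⟩ := List.any_eq_true.1 h
    exact hex χ (by rw [← hd, Nat.eq_of_beq_eq_true h9]; exact hx)
  rw [tst, h4, h5, h6, h7, h8] at h2
  exact absurd h2 (by decide)

end Cfsg.Agent.H511.Ore
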