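import Cfsg.Agent.H511.Ore.Fourth
import Cfsg.Agent.S0165

/-!
# ORE (S2443), T1: the local data of a self-centralizing element of prime order (helper511)
-/

set_option autoImplicit false

open Cfsg Subgroup
open scoped ComplexConjugate

namespace Cfsg.Agent.H511.Ore

open Cfsg.Agent.H653.Sieve Cfsg.Agent.H651.Two Cfsg.Agent.Characters.Core
open Cfsg.Agent.SmallSimple.ThetaSetup Cfsg.Agent.SmallSimple.PrimeLocal

universe u

variable {G : Type u} [Group G] [Finite G]

/-- The Sylow subgroup of an element of the data, with the index of the centralizer in the normalizer. -/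
theorem exists_sylow [IsSimpleGroup G] (hG : ¬ IsMulCommutative G) {p : ℕ} [hp : Fact p.Prime] {N : ℕ}
    (hN : Nat.card G = N) {x : G} (hx : orderOf x = p) {k : ℕ} (hc : Nat.card (centralizer ({x} : Set G)) = p * k)
    (e t : ℕ) (wl : List (ℕ × ℤ)) (c : ℤ) (b : Bool) (hnum : numOK N p k e t wl c b = true) :
    ∃ P : Sylow p G, Nat.card P = p ∧ (P : Subgroup G) = zpowers x ∧ p ≠ 2 ∧ e * t = p - 1 ∧
      (centralizer ((P : Subgroup G) : Set G)).relIndex (normalizer ((P : Subgroup G) : Set G)) = e ∧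
      Nat.card (centralizer ((P : Subgroup G) : Set G)) = p * k := by
  classical
  simp only [numOK, Bool.and_eq_true, bne_iff_ne, beq_iff_eq, ne_eq] at hnum
  obtain ⟨⟨⟨⟨⟨⟨hp2, hN0⟩, hN1⟩, ht⟩, huniq⟩, -⟩, -⟩ := hnum
  have h1 : p ∣ Nat.card G := by rw [hN]; exact Nat.dvd_of_mod_eq_zero hN0
  have h2 : ¬ p ^ 2 ∣ Nat.card G := by
    rw [hN]; exact fun h => hN1 (Nat.mod_eq_zero_of_dvd h)
  have hpg : IsPGroup p (zpowers x) := IsPGroup.of_card (n := 1) (by rw [Nat.card_zpowers, hx, pow_one])
  obtain ⟨P, hxP⟩ := hpg.exists_le_sylow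
  have hP : Nat.card P = p := card_of_not_sq_dvd h1 h2 P
  have hPx : (P : Subgroup G) = zpowers x := by
    have h3 : Nat.card (zpowers x) = Nat.card (P : Subgroup G) := by rw [Nat.card_zpowers, hx]; exact hP.symm
    exact (Subgroup.eq_of_le_of_card_ge hxP h3.ge).symm
  obtain ⟨e', K, hL⟩ := exists_local hG h1 h2 P
  have hCx : centralizer ((P : Subgroup G) : Set G) = centralizer ({x} : Set G) := by
    rw [hPx, SmallSimple.SelfCentPrime.centralizer_zpowers]
  have hCP : Nat.card (centralizer ((P : Subgroup G) : Set G)) = p * k := by rw [hCx, hc]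
  have hKk : Nat.card K = k := by
    have h3 : p * Nat.card K = p * k := by rw [← hL.card_centralizer]; exact hCP
    exact Nat.eq_of_mul_eq_mul_left hp.out.pos h3
  have hN' : Nat.card (normalizer ((P : Subgroup G) : Set G)) = p * e' * k := by
    have := hL.card_normalizer
    rw [hKk] at this
    exact this
  have hrel : (centralizer ((P : Subgroup G) : Set G)).relIndex (normalizer ((P : Subgroup G) : Set G)) = e' := by
    have hle : centralizer ((P : Subgroup G) : Set G) ≤ normalizer ((P : Subgroup G) : Set G) :=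
      centralizer_le_normalizer _
    have h3 := Subgroup.index_mul_card ((centralizer ((P : Subgroup G) : Set G)).subgroupOf
      (normalizer ((P : Subgroup G) : Set G)))
    rw [Nat.card_congr (Subgroup.subgroupOfEquivOfLe hle).toEquiv, hCP, hN'] at h3
    have hk : 0 < k := by rw [← hKk]; exact Nat.card_pos
    have h4 : 0 < p * k := Nat.mul_pos hp.out.pos hk
    apply Nat.eq_of_mul_eq_mul_right h4
    rw [Subgroup.relIndex, h3]; ring
  have hee : e' = e := by
    by_contra hne
    have hlt : e' < p := by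
      have := Nat.le_of_dvd (by have := hp.out.two_le; omega) hL.dvd_pred
      have := hp.out.two_le
      omega
    have h3 := List.all_eq_true.1 huniq e' (List.mem_range.2 hlt)
    have hce := hL.card_eq
    rw [hKk, hN] at hce
    have hpos : 0 < p * e' * k := by
      have hk : 0 < k := by rw [← hKk]; exact Nat.card_pos
      have he1 := hL.one_lt
      exact Nat.mul_pos (Nat.mul_pos hp.out.pos (by omega)) hk
    have h4 : N % (p * e' * k) = 0 := by rw [hce]; exact Nat.mul_mod_left _ _
    have h5 : N / (p * e' * k) = Nat.card (Sylow p G) := by rw [hce]; exact Nat.mul_div_cancel _ hpos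
    have h6 : Nat.card (Sylow p G) % p = 1 := by
      have h7 := card_sylow_modEq_one p G
      have h8 : Nat.card (Sylow p G) % p = 1 % p := h7
      rw [h8, Nat.mod_eq_of_lt hp.out.one_lt]
    have h7 : (p - 1) % e' = 0 := Nat.mod_eq_zero_of_dvd hL.dvd_pred
    simp only [Bool.or_eq_true, beq_iff_eq, bne_iff_ne, ne_eq] at h3
    rcases h3 with ((h3 | h3) | h3) | h3
    · exact hne h3
    · exact h3 h7
    · exact h3 h4
    · rw [h5] at h3; exact h3 h6
  exact ⟨P, hP, hPx, hp2, ht, by rw [hrel, hee], hCP⟩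

omit [Finite G] in
/-- A character of `p`-defect zero vanishes at the `p`-singular elements. -/
theorem vanish_of_dvd [Finite G] {p n : ℕ} (hp : p.Prime) (h1 : p ^ n ∣ Nat.card G) (h2 : ¬ p ^ (n + 1) ∣ Nat.card G)
    {ξ : IrrCharacter G} (hd : p ^ n ∣ charDegree (ξ : G → ℂ)) {g : G} (hg : p ∣ orderOf g) : (ξ : G → ℂ) g = 0 := by
  obtain ⟨ξ, k, ρ, hρ, rfl⟩ := ξ
  have h3 : ρ.character 1 = (Module.finrank ℂ (Fin k → ℂ) : ℂ) := Representation.char_one ρ
  have h4 : charDegree ρ.character = Module.finrank ℂ (Fin k → ℂ) :=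
    Blocks.Knorr.charDegree_of_natCast h3
  have hd' : p ^ n ∣ Module.finrank ℂ (Fin k → ℂ) := by rw [← h4]; exact hd
  have := Fintype.ofFinite G
  have := hρ
  exact S0165.result ρ p n hp h1 h2 hd' g hg

/-- **The fourth moment for an element of the data.** -/
theorem fourth_of_has [IsSimpleGroup G] [Fintype (IrrCharacter G)] (hG : ¬ IsMulCommutative G) {N : ℕ}
    (hN : Nat.card G = N) {c : CD} (hc : c.Has G) (hk : c.k = 1) (hok : c.ok N = true) :
    ∃ x : G, orderOf x = c.r ∧ c.r.Prime ∧ Nat.card (centralizer ({x} : Set G)) = c.r ∧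
      8 * (∑ χ : IrrCharacter G, ‖(χ : G → ℂ) x‖ ^ 4 - 1) ≤ s4 c.r c.e c.t ∧
      ∀ χ : IrrCharacter G, c.r ∣ charDegree (χ : G → ℂ) → (χ : G → ℂ) x = 0 := by
  obtain ⟨hr, x, hx, hcx⟩ := hc
  have : Fact c.r.Prime := ⟨hr⟩
  obtain ⟨P, hP, hPx, hp2, ht, he, hCP⟩ := exists_sylow hG hN hx hcx c.e c.t c.wl c.c c.b hok
  have hxP : x ∈ P := by
    have : x ∈ (P : Subgroup G) := by rw [hPx]; exact mem_zpowers x
    exact this
  have hx1 : x ≠ 1 := by rintro rfl; rw [orderOf_one] at hx; exact hr.one_lt.ne hx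
  have hC : centralizer (P : Set G) = (P : Subgroup G) := by
    symm
    apply Subgroup.eq_of_le_of_card_ge (le_centralizer hP)
    have h3 : Nat.card (centralizer (P : Set G)) = c.r * c.k := hCP
    have h4 : Nat.card (P : Subgroup G) = c.r := hP
    rw [h3, hk, mul_one, h4]
  refine ⟨x, hx, hr, by rw [hcx, hk, mul_one], fourth hp2 hP hC he ht hxP hx1, fun χ hχ => ?_⟩
  have hd : c.r ∣ Nat.card G := by rw [← hP]; exact Subgroup.card_subgroup_dvd_card _
  have hnd : ¬ c.r ^ 2 ∣ Nat.card G := by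
    simp only [CD.ok, numOK, Bool.and_eq_true, bne_iff_ne, beq_iff_eq, ne_eq] at hok
    rw [hN]
    exact fun h => hok.1.1.1.1.2 (Nat.mod_eq_zero_of_dvd h)
  exact vanish_of_dvd hr (n := 1) (by rwa [pow_one]) hnd (by rwa [pow_one]) (by rw [hx])

end Cfsg.Agent.H511.Ore
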