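import Cfsg.Agent.H511.Ore.Prd
import Cfsg.Agent.H438.Fpr.LyC
import Cfsg.Agent.H256.Sep.RowLy
import Cfsg.Agent.H655.LySixtySeven
import Cfsg.Agent.H215.CC.LyThirtySeven

/-!
# ORE (S2443), T1 for the Lyons group: the elements with `|C(g)| ≤ 351168` are commutators (helper511)

* `degOff_ly` : the nontrivial degrees prime to 31 are at least 14874;
* `t1_ly`, `prd_ly`. `hK` : the classification (universe 0), `fun _ _ _ h => S0000.result`.
-/

set_option autoImplicit false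
set_option maxRecDepth 100000

namespace Cfsg.Agent.H511.Ore.Ly

open Cfsg Subgroup Cfsg.Agent.H511.Ore
open Cfsg.Agent.H653.Sieve Cfsg.Agent.H651.Two Cfsg.Agent.H777.Ore

universe u

def fac : List (ℕ × ℕ) := [(67, 1), (37, 1), (31, 1), (11, 1), (7, 1), (5, 6), (3, 7), (2, 8)]

def c31 : CD := ⟨31, 1, 6, 5, [(0, 0), (1, 5), (6, -1), (25, 1), (30, -5)], 5, true⟩

def cd : List CD :=
  [⟨67, 1, 22, 3, [(0, 0), (1, 3), (22, -1), (45, 1), (66, -3)], 3, true⟩,
   ⟨37, 1, 18, 2, [(0, 0), (1, 2), (18, -1), (19, 1), (36, -2)], 2, true⟩,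
   c31,
   ⟨11, 6, 5, 2, [(0, 0), (1, 2), (2, 4), (5, -1), (5, 10), (6, -10), (6, 1), (9, -4), (10, -2)], 0, false⟩]

theorem chk : allDiv (14874 * 14874) (tst 31 0 [] cd) fac 1 = true := by decide +kernel

theorem chk1 : (cd.all (CD.ok 51765179004000000)) = true := by decide +kernel

theorem chk2 : (fac.all fun pa => Nat.Prime pa.1) = true := by
  simp only [fac, List.all_cons, List.all_nil, Bool.and_true]
  norm_num

theorem chk3 : facProd fac = 51765179004000000 := by decide +kernel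

theorem ex (p : ℕ) (hp : p.Prime) (hd : p ∣ 51765179004000000) : ∃ x : Spor.Ly, orderOf x = p := by
  have := Cfsg.Agent.Ly.Setup.finite_ly
  have := Fact.mk hp
  exact exists_prime_orderOf_dvd_card' (G := Spor.Ly) p (by rw [Cfsg.Agent.Ly.Setup.card_ly]; exact hd)

section

open Cfsg.Agent.H438.Fpr.Ly Cfsg.Agent.H409 Cfsg.Agent.OrdDiv Cfsg.Agent.H940.Eng Cfsg.Agent.H940.Eng.D
  Cfsg.Agent.H715.Fpr Cfsg.Agent.H493.Sep.LyLoc Cfsg.Agent.H438.Fpr.Gen Cfsg.Agent.TypeM.Two Cfsg.Agent.CpAutLy.Types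
  Cfsg.Agent.CpAutLy.Base Cfsg.Agent.CpAutLy.McLThree Cfsg.Agent.SporRec.TwoAn Cfsg.Agent.CpAutLy.Cov
  Cfsg.Agent.TypeM.McLFromLy

/-- elements of order 11 -/
theorem card11 {x : Spor.Ly} (hx : orderOf x = 11) : Nat.card (centralizer ({x} : Set Spor.Ly)) = 66 := by
  have := Cfsg.Agent.Ly.Setup.finite_ly
  obtain ⟨x₀, h₀⟩ := exists_three
  obtain ⟨y, hy, hyx⟩ := exists_of_three h₀ (r := 11) (by norm_num) (by norm_num)
  obtain ⟨s, hs, hsy⟩ := exists_inv (r := 11) (by norm_num) (by norm_num) (not_sq (r := 11) (by decide +kernel))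
    mem11.1 o11.1 hy
  rw [cent_of_order (by norm_num) (not_sq (r := 11) (by decide +kernel)) hx hy]
  refine Nat.dvd_antisymm (cent11 hy) ?_
  have h2 : 2 ∣ Nat.card (centralizer ({y} : Set Spor.Ly)) := by
    rw [← hs]
    exact Subgroup.orderOf_dvd_natCard _ (mem_centralizer_singleton_iff.2 hsy)
  have h3 : 3 ∣ Nat.card (centralizer ({y} : Set Spor.Ly)) := by
    rw [← h₀.ord]
    exact Subgroup.orderOf_dvd_natCard _ (mem_centralizer_singleton_iff.2 hyx.symm)
  have h11 : 11 ∣ Nat.card (centralizer ({y} : Set Spor.Ly)) := by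
    rw [← hy]
    exact Subgroup.orderOf_dvd_natCard _ (mem_centralizer_singleton_iff.2 rfl)
  exact Nat.Coprime.mul_dvd_of_dvd_of_dvd (by norm_num) (Nat.Coprime.mul_dvd_of_dvd_of_dvd (by norm_num) h2 h3) h11

end

theorem card31 {x : Spor.Ly} (hx : orderOf x = 31) : Nat.card (centralizer ({x} : Set Spor.Ly)) = 31 := by
  obtain ⟨h1, -⟩ := Cfsg.Agent.H256.Sep.RowLy.data31 (R := zpowers x) (by rw [Nat.card_zpowers, hx])
  rwa [SmallSimple.SelfCentPrime.centralizer_zpowers] at h1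

theorem has (hK : H995.CopEngine.AllKnown.{0}) : ∀ d ∈ cd, d.Has Spor.Ly := by
  have := Cfsg.Agent.Ly.Setup.finite_ly
  have hI : Spor.IsoLy Spor.Ly := ⟨MulEquiv.refl _⟩
  intro d hd
  simp only [cd, List.mem_cons, List.not_mem_nil, or_false] at hd
  rcases hd with rfl | rfl | rfl | rfl
  · obtain ⟨x, hx⟩ := ex 67 (by norm_num) (by norm_num)
    exact ⟨by norm_num, x, hx, (H655.LySixtySeven.card_centralizer hK hI hx).trans (by norm_num)⟩
  · obtain ⟨x, hx⟩ := ex 37 (by norm_num) (by norm_num)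
    exact ⟨by norm_num, x, hx, (H215.CC.LyThirtySeven.card_centralizer hK hI hx).trans (by norm_num)⟩
  · obtain ⟨x, hx⟩ := ex 31 (by norm_num) (by norm_num)
    exact ⟨by norm_num [c31], x, hx, (card31 hx).trans (by norm_num [c31])⟩
  · obtain ⟨x, hx⟩ := ex 11 (by norm_num) (by norm_num)
    exact ⟨by norm_num, x, hx, (card11 hx).trans (by norm_num)⟩

theorem nonab : ¬ IsMulCommutative Spor.Ly := by
  have := Cfsg.Agent.Ly.Setup.finite_ly
  have := Cfsg.Agent.Ly.Setup.isSimple_ly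
  intro h
  let _ : CommGroup Spor.Ly := { (inferInstance : Group Spor.Ly) with mul_comm := h.is_comm.comm }
  have h1 := IsSimpleGroup.prime_card (α := Spor.Ly)
  rw [Cfsg.Agent.Ly.Setup.card_ly] at h1
  revert h1
  norm_num

/-- **The nontrivial degrees prime to 31 are at least 14874.** -/
theorem degOff_ly (hK : H995.CopEngine.AllKnown.{0}) : DegOff Spor.Ly 31 14874 := by
  have := Cfsg.Agent.Ly.Setup.finite_ly
  have := Cfsg.Agent.Ly.Setup.isSimple_ly
  exact degOff_of_check nonab _ Cfsg.Agent.Ly.Setup.card_ly fac chk2 chk3 cd chk1 (has hK) minDeg_zero noDeg_nil chk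

theorem t1_ly' (hK : H995.CopEngine.AllKnown.{0}) : T1 Spor.Ly 351168 := by
  have := Cfsg.Agent.Ly.Setup.finite_ly
  have := Cfsg.Agent.Ly.Setup.isSimple_ly
  exact T1.of_data nonab _ Cfsg.Agent.Ly.Setup.card_ly fac chk2 chk3 cd chk1 (has hK) minDeg_zero noDeg_nil c31
    (by simp [cd]) rfl chk (by decide +kernel)

/-- **T1 for the Lyons group.** -/
theorem t1_ly (hK : H995.CopEngine.AllKnown.{0}) {S : Type u} [Group S] (h : Cfsg.Spor.IsoLy S) : T1 S 351168 := by
  obtain ⟨e⟩ := h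
  exact (t1_ly' hK).congr e

/-- **Products of two elements of order 31.** -/
theorem prd_ly (hK : H995.CopEngine.AllKnown.{0}) {x y g : Spor.Ly} (hx : orderOf x = 31) (hy : orderOf y = 31)
    (hg : Nat.card (centralizer ({g} : Set Spor.Ly)) ≤ 351168) :
    ∃ a b : Spor.Ly, a * x * a⁻¹ * (b * y * b⁻¹) = g := by
  have := Cfsg.Agent.Ly.Setup.finite_ly
  have := Cfsg.Agent.Ly.Setup.isSimple_ly
  exact prd_of_data nonab Cfsg.Agent.Ly.Setup.card_ly (c := c31) (by norm_num [c31]) rfl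
    (List.all_eq_true.1 chk1 _ (by simp [cd])) (D := 14874) (degOff_ly hK) (K := 351168) (by decide +kernel) hx
    (card31 hx) hy (card31 hy) hg

end Cfsg.Agent.H511.Ore.Ly
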