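import Cfsg.Agent.H511.Ore.Deg

/-!
# ORE (S2443), T1: the sum of the fourth powers (helper511)

`x` of prime order `p`, `C(x) = ⟨x⟩`, `e = |N : C|`, `t = (p - 1) / e` : `8 (∑ |χ(x)|⁴ - 1) ≤ s4 p e t`.
-/

set_option autoImplicit false

open Cfsg Subgroup
open scoped ComplexConjugate

namespace Cfsg.Agent.H511.Ore

open Cfsg.Agent.H653.Sieve Cfsg.Agent.H651.Two Cfsg.Agent.Characters.Core

universe u

/-- eight times the bound for the sum of the fourth powers over the nonprincipal characters -/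
def s4 (p e t : ℕ) : ℕ :=
  if t = 1 then 8 * (p - 1) else if t = 2 then 8 * (e - 1) + (2 * (p + 1) ^ 2 - (p - 1) ^ 2)
  else 8 * (e - 1) + 8 * (p - e) ^ 2

variable {G : Type u} [Group G] [Finite G]

theorem sq_sum_le {ι : Type*} (s : Finset ι) (f : ι → ℝ) (hf : ∀ i ∈ s, 0 ≤ f i) :
    ∑ i ∈ s, f i ^ 2 ≤ (∑ i ∈ s, f i) ^ 2 := by
  rw [sq (∑ i ∈ s, f i), Finset.sum_mul_sum]
  refine Finset.sum_le_sum fun i hi => ?_
  rw [sq, ← Finset.mul_sum]
  exact mul_le_mul_of_nonneg_left (Finset.single_le_sum hf hi) (hf i hi)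

/-- **The sum of the fourth powers.** -/
theorem fourth [Fintype (IrrCharacter G)] {p : ℕ} [hp : Fact p.Prime] (hp2 : p ≠ 2) {P : Sylow p G}
    (hP : Nat.card P = p) (hC : centralizer (P : Set G) = (P : Subgroup G)) {e t : ℕ}
    (he : (centralizer (P : Set G)).relIndex (normalizer (P : Set G)) = e) (ht : e * t = p - 1)
    {x : G} (hx : x ∈ P) (hx1 : x ≠ 1) :
    8 * (∑ χ : IrrCharacter G, ‖(χ : G → ℂ) x‖ ^ 4 - 1) ≤ s4 p e t := by
  classical
  have := Fintype.ofFinite G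
  obtain ⟨NE, X, ε, d, S, hdis, hNE, hX, hε, hd, -, hv, -, -, hsum, hz⟩ :=
    SmallSimple.TheoremBCor.theoremB_selfCent p hp2 P hP hC e t he ht
  have hp1 := hp.out.two_le
  have he0 : 1 ≤ e := by
    rcases Nat.eq_zero_or_pos e with h | h
    · rw [h, zero_mul] at ht; omega
    · exact h
  have hep : e ≤ p - 1 := by
    rw [← ht]
    rcases Nat.eq_zero_or_pos t with h | h
    · rw [h, mul_zero] at ht; omega
    · exact Nat.le_mul_of_pos_right e h
  -- splitting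
  have hsplit : ∀ f : IrrCharacter G → ℝ, (∀ χ, χ ∉ NE → χ ∉ X → f χ = 0) →
      ∑ χ, f χ = ∑ χ ∈ NE, f χ + ∑ χ ∈ X, f χ := by
    intro f hf
    rw [← Finset.sum_union hdis]
    symm
    refine Finset.sum_subset (Finset.subset_univ _) fun χ _ hχ => ?_
    rw [Finset.mem_union, not_or] at hχ
    exact hf χ hχ.1 hχ.2
  have h0 : ∀ χ, χ ∉ NE → χ ∉ X → (χ : G → ℂ) x = 0 := fun χ h1 h2 => (hz χ h1 h2).1 x hx hx1
  have h1 : ∀ χ ∈ NE, ‖(χ : G → ℂ) x‖ = 1 := by
    intro χ hχ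
    rw [hv χ hχ x hx hx1]
    rcases hε χ hχ with h | h <;> rw [h] <;> simp
  -- the sum of the squares over `X`
  have hcx : Nat.card (centralizer ({x} : Set G)) = p := by
    have hC' : centralizer ({x} : Set G) = (P : Subgroup G) :=
      (Blocks.CyclicOrtho.centralizer_eq P hP hx hx1).trans hC
    rw [hC']
    exact hP
  have hsq : ∑ χ ∈ X, ‖(χ : G → ℂ) x‖ ^ 2 = (p : ℝ) - e := by
    have h2 := S0145.sum_irr_mul_conj x x
    rw [if_pos (IsConj.refl x), hcx] at h2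
    have h3 : ∑ χ : IrrCharacter G, ‖(χ : G → ℂ) x‖ ^ 2 = p := by
      have h4 : ((∑ χ : IrrCharacter G, ‖(χ : G → ℂ) x‖ ^ 2 : ℝ) : ℂ) = (p : ℝ) := by
        push_cast
        rw [← h2]
        refine Finset.sum_congr rfl fun χ _ => ?_
        rw [Complex.mul_conj, Complex.normSq_eq_norm_sq]
        push_cast
        rfl
      exact_mod_cast h4
    rw [hsplit _ fun χ h1 h2 => by rw [h0 χ h1 h2]; simp, Finset.sum_congr rfl fun χ hχ => by rw [h1 χ hχ, one_pow],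
      Finset.sum_const, hNE, nsmul_eq_mul, mul_one] at h3
    linarith
  -- the sum of the fourth powers
  have h4 : ∑ χ : IrrCharacter G, ‖(χ : G → ℂ) x‖ ^ 4 = e + ∑ χ ∈ X, ‖(χ : G → ℂ) x‖ ^ 4 := by
    rw [hsplit _ fun χ h1 h2 => by rw [h0 χ h1 h2]; simp, Finset.sum_congr rfl fun χ hχ => by rw [h1 χ hχ, one_pow],
      Finset.sum_const, hNE, nsmul_eq_mul, mul_one]
  have h5 : ∑ χ ∈ X, ‖(χ : G → ℂ) x‖ ^ 4 ≤ ((p : ℝ) - e) ^ 2 := by
    rw [← hsq]
    calc ∑ χ ∈ X, ‖(χ : G → ℂ) x‖ ^ 4 = ∑ χ ∈ X, (‖(χ : G → ℂ) x‖ ^ 2) ^ 2 :=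
          Finset.sum_congr rfl fun χ _ => by ring
      _ ≤ _ := sq_sum_le X _ fun χ _ => by positivity
  rw [h4]
  have hpe : ((p - e : ℕ) : ℝ) = (p : ℝ) - e := by rw [Nat.cast_sub (by omega)]
  have he1 : ((e - 1 : ℕ) : ℝ) = (e : ℝ) - 1 := by rw [Nat.cast_sub he0, Nat.cast_one]
  unfold s4
  by_cases ht1 : t = 1
  · rw [if_pos ht1]
    have h6 : (p : ℝ) - e = 1 := by
      rw [← hpe]
      have : p - e = 1 := by rw [ht1, mul_one] at ht; omega
      rw [this, Nat.cast_one]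
    have h7 : ((8 * (p - 1) : ℕ) : ℝ) = 8 * ((p : ℝ) - 1) := by
      rw [Nat.cast_mul, Nat.cast_sub (by omega)]; norm_num
    rw [h7]
    rw [h6] at h5
    linarith
  · rw [if_neg ht1]
    by_cases ht2 : t = 2
    · rw [if_pos ht2]
      -- the two exceptional characters
      rw [ht2] at hX
      obtain ⟨Θ, Θ', hne, hXe⟩ := Finset.card_eq_two.1 hX
      have hΘ : Θ ∈ X := by rw [hXe]; simp
      have hΘ' : Θ' ∈ X := by rw [hXe]; simp
      have hone : ¬ p ∣ orderOf (1 : G) := by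
        rw [orderOf_one]; exact fun h => hp.out.one_lt.ne' (Nat.dvd_one.1 h)
      have hs1 := hsum Θ hΘ 1 hone
      have hs2 := hsum Θ' hΘ' 1 hone
      have hd0 : (d : ℂ) ≠ 0 := by rcases hd with h | h <;> rw [h] <;> simp
      have hdd : (d : ℂ) * d = 1 := by rcases hd with h | h <;> rw [h] <;> simp
      have heq : (Θ' : G → ℂ) 1 = (Θ : G → ℂ) 1 := mul_left_cancel₀ hd0 (hs2.symm.trans hs1)
      have hΘ0 : (Θ : G → ℂ) 1 ≠ 0 := by
        obtain ⟨n, hn, hn1⟩ := isIrr_apply_one Θ.2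
        rw [hn1]
        exact_mod_cast hn.ne'
      have hcol : ∑ χ : IrrCharacter G, (χ : G → ℂ) x * (χ : G → ℂ) 1 = 0 := by
        have h2 := S0145.sum_irr_mul_conj x 1
        have hnc : ¬ IsConj x 1 := fun h => hx1 (isConj_one_left.1 h)
        rw [if_neg hnc] at h2
        rw [← h2]
        refine Finset.sum_congr rfl fun χ _ => ?_
        obtain ⟨n, -, hn1⟩ := isIrr_apply_one χ.2
        rw [hn1, Complex.conj_natCast]
      have hcol2 : ∑ χ ∈ NE, (χ : G → ℂ) x * (χ : G → ℂ) 1 + ∑ χ ∈ X, (χ : G → ℂ) x * (χ : G → ℂ) 1 = 0 := by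
        rw [← Finset.sum_union hdis, ← hcol]
        refine Finset.sum_subset (Finset.subset_univ _) fun χ _ hχ => ?_
        rw [Finset.mem_union, not_or] at hχ
        rw [h0 χ hχ.1 hχ.2, zero_mul]
      rw [Finset.sum_congr rfl fun χ hχ => by rw [hv χ hχ x hx hx1], hs1, hXe, Finset.sum_pair hne, heq] at hcol2
      have hsm : (Θ : G → ℂ) x + (Θ' : G → ℂ) x = -d := by
        have : (Θ : G → ℂ) 1 * (d + ((Θ : G → ℂ) x + (Θ' : G → ℂ) x)) = 0 := by linear_combination hcol2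
        have h3 := (mul_eq_zero.1 this).resolve_left hΘ0
        linear_combination h3
      have hn : ‖(Θ : G → ℂ) x + (Θ' : G → ℂ) x‖ = 1 := by
        rw [hsm]
        rcases hd with h | h <;> rw [h] <;> simp
      set u := ‖(Θ : G → ℂ) x‖ with hu
      set v := ‖(Θ' : G → ℂ) x‖ with hv'
      have huv : (u - v) ^ 2 ≤ 1 := by
        have h3 : |u - v| ≤ 1 := by
          rw [← hn, hu, hv']
          have := abs_norm_sub_norm_le ((Θ : G → ℂ) x) (-(Θ' : G → ℂ) x)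
          rwa [norm_neg, sub_neg_eq_add] at this
        rw [← sq_abs]
        have := abs_nonneg (u - v)
        nlinarith
      have hsq' : u ^ 2 + v ^ 2 = (p : ℝ) - e := by
        rw [← hsq, hXe, Finset.sum_pair hne]
      rw [hXe, Finset.sum_pair hne, ← hu, ← hv']
      have hu0 : 0 ≤ u := norm_nonneg _
      have hv0 : 0 ≤ v := norm_nonneg _
      have hpe2 : (p : ℝ) = 2 * e + 1 := by
        have : p = 2 * e + 1 := by rw [ht2] at ht; omega
        rw [this]; push_cast; ring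
      have hcast : ((8 * (e - 1) + (2 * (p + 1) ^ 2 - (p - 1) ^ 2) : ℕ) : ℝ) =
          8 * ((e : ℝ) - 1) + (2 * ((p : ℝ) + 1) ^ 2 - ((p : ℝ) - 1) ^ 2) := by
        have hle : (p - 1) ^ 2 ≤ 2 * (p + 1) ^ 2 := by
          have : (p - 1) ^ 2 ≤ (p + 1) ^ 2 := Nat.pow_le_pow_left (by omega) 2
          omega
        have hp' : ((p - 1 : ℕ) : ℝ) = (p : ℝ) - 1 := by rw [Nat.cast_sub (by omega), Nat.cast_one]
        rw [Nat.cast_add, Nat.cast_mul, he1, Nat.cast_sub hle, Nat.cast_mul, Nat.cast_pow, Nat.cast_pow, hp']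
        push_cast
        ring
      rw [hcast]
      -- `2 u v ≥ s - 1 = e`
      have hs : u ^ 2 + v ^ 2 = e + 1 := by rw [hsq', hpe2]; ring
      have huv2 : (e : ℝ) ≤ 2 * (u * v) := by nlinarith
      have he00 : (0 : ℝ) ≤ e := Nat.cast_nonneg e
      have huv4 : (e : ℝ) ^ 2 ≤ 4 * (u * v) ^ 2 := by nlinarith [mul_nonneg hu0 hv0]
      have h9 : u ^ 4 + v ^ 4 = (u ^ 2 + v ^ 2) ^ 2 - 2 * (u * v) ^ 2 := by ring
      rw [h9, hs, hpe2]
      nlinarith
    · rw [if_neg ht2]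
      have h7 : ((8 * (e - 1) + 8 * (p - e) ^ 2 : ℕ) : ℝ) = 8 * ((e : ℝ) - 1) + 8 * ((p : ℝ) - e) ^ 2 := by
        rw [Nat.cast_add, Nat.cast_mul, he1, Nat.cast_mul, Nat.cast_pow, hpe]; norm_num
      rw [h7]
      linarith

end Cfsg.Agent.H511.Ore
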