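import Cfsg.Agent.H511.Ore.WRow

/-!
# ORE (S2443) / four involutions (S4171), T1: products of two conjugates (helper511)

`prd_of_data` : `x`, `y` of order `p`, `|C(x)| = |C(y)| = p`, `|C(g)| ≤ K` : `g = a x a⁻¹ (b y b⁻¹)`.
-/

set_option autoImplicit false

open Cfsg Subgroup

namespace Cfsg.Agent.H511.Ore

open Cfsg.Agent.H653.Sieve Cfsg.Agent.H651.Two Cfsg.Agent.Characters.Core Cfsg.Agent.H777.Ore
open Cfsg.Agent.SmallSimple.ThetaSetup Cfsg.Agent.SmallSimple.PrimeLocal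

universe u

variable {G : Type u} [Group G] [Finite G]

/-- **The fourth moment of a given element.** -/
theorem fourth_of_card [IsSimpleGroup G] [Fintype (IrrCharacter G)] (hG : ¬ IsMulCommutative G) {N : ℕ}
    (hN : Nat.card G = N) {c : CD} (hr : c.r.Prime) (hk : c.k = 1) (hok : c.ok N = true) {x : G}
    (hx : orderOf x = c.r) (hcx : Nat.card (centralizer ({x} : Set G)) = c.r) :
    8 * (∑ χ : IrrCharacter G, ‖(χ : G → ℂ) x‖ ^ 4 - 1) ≤ s4 c.r c.e c.t ∧
      ∀ χ : IrrCharacter G, c.r ∣ charDegree (χ : G → ℂ) → (χ : G → ℂ) x = 0 := by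
  have : Fact c.r.Prime := ⟨hr⟩
  obtain ⟨P, hP, hPx, hp2, ht, he, hCP⟩ := exists_sylow hG hN hx (k := c.k) (by rw [hcx, hk, mul_one]) c.e c.t c.wl
    c.c c.b hok
  have hxP : x ∈ P := by
    have : x ∈ (P : Subgroup G) := by rw [hPx]; exact mem_zpowers x
    exact this
  have hx1 : x ≠ 1 := by rintro rfl; rw [orderOf_one] at hx; exact hr.one_lt.ne hx
  have hC : centralizer (P : Set G) = (P : Subgroup G) := by
    symm
    apply Subgroup.eq_of_le_of_card_ge (le_centralizer hP)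
    have h3 : Nat.card (centralizer (P : Set G)) = c.r * c.k := hCP
    have h4 : Nat.card (P : Subgroup G) = c.r := hP
    rw [h3, hk, mul_one, h4]
  refine ⟨fourth hp2 hP hC he ht hxP hx1, fun χ hχ => ?_⟩
  have hd : c.r ∣ Nat.card G := by rw [← hP]; exact Subgroup.card_subgroup_dvd_card _
  have hnd : ¬ c.r ^ 2 ∣ Nat.card G := by
    simp only [CD.ok, numOK, Bool.and_eq_true, bne_iff_ne, beq_iff_eq, ne_eq] at hok
    rw [hN]
    exact fun h => hok.1.1.1.1.2 (Nat.mod_eq_zero_of_dvd h)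
  exact vanish_of_dvd hr (n := 1) (by rwa [pow_one]) hnd (by rwa [pow_one]) (by rw [hx])

/-- **Products of two conjugates.** -/
theorem prd_of_data [IsSimpleGroup G] (hG : ¬ IsMulCommutative G) {N : ℕ} (hN : Nat.card G = N) {c : CD}
    (hr : c.r.Prime) (hk : c.k = 1) (hok : c.ok N = true) {D : ℕ} (hD : DegOff G c.r D) {K : ℕ}
    (hK : K * s4 c.r c.e c.t < 8 * (D * D)) {x y g : G} (hx : orderOf x = c.r)
    (hcx : Nat.card (centralizer ({x} : Set G)) = c.r) (hy : orderOf y = c.r)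
    (hcy : Nat.card (centralizer ({y} : Set G)) = c.r) (hg : Nat.card (centralizer ({g} : Set G)) ≤ K) :
    ∃ a b : G, a * x * a⁻¹ * (b * y * b⁻¹) = g := by
  have : Finite (IrrCharacter G) := finite_irr
  have := Fintype.ofFinite (IrrCharacter G)
  obtain ⟨hS, hv⟩ := fourth_of_card hG hN hr hk hok hx hcx
  obtain ⟨hS', -⟩ := fourth_of_card hG hN hr hk hok hy hcy
  have hD0 : 0 < D := by
    rcases Nat.eq_zero_or_pos D with h0 | h0
    · rw [h0] at hK; omega
    · exact h0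
  refine exists_conj_of_sum (x := x) (y := y) (d := D) (S := (s4 c.r c.e c.t : ℝ) / 8) ?_ (fun χ h1 h2 _ => ?_) ?_ hD0
  · have h1 : ∑ χ : IrrCharacter G, (‖(χ : G → ℂ) x‖ * ‖(χ : G → ℂ) y‖) ^ 2 ≤
        ∑ χ : IrrCharacter G, (‖(χ : G → ℂ) x‖ ^ 4 + ‖(χ : G → ℂ) y‖ ^ 4) / 2 := by
      refine Finset.sum_le_sum fun χ _ => ?_
      nlinarith [sq_nonneg (‖(χ : G → ℂ) x‖ ^ 2 - ‖(χ : G → ℂ) y‖ ^ 2)]
    refine h1.trans ?_
    rw [← Finset.sum_div, Finset.sum_add_distrib]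
    linarith
  · exact hD χ h1 fun h3 => h2 (hv χ h3)
  · have h1 : (Nat.card (centralizer ({g} : Set G)) : ℝ) ≤ K := by exact_mod_cast hg
    have h2 : ((K * s4 c.r c.e c.t : ℕ) : ℝ) < ((8 * (D * D) : ℕ) : ℝ) := by exact_mod_cast hK
    push_cast at h2
    have h3 : (Nat.card (centralizer ({g} : Set G)) : ℝ) * (s4 c.r c.e c.t : ℝ) ≤ K * (s4 c.r c.e c.t : ℝ) :=
      mul_le_mul_of_nonneg_right h1 (Nat.cast_nonneg _)
    nlinarith

end Cfsg.Agent.H511.Ore
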