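import Cfsg.Agent.H511.Ore.Local
import Cfsg.Agent.H777.Ore.Base
import Cfsg.Agent.Characters.ClassMul

/-!
# ORE (S2443), T1: the combined row theorem (helper511)

`isC_of_data` : from the numerical data (kernel checks) every element with `|C(g)| ≤ K` is a commutator.
-/

set_option autoImplicit false

open Cfsg Subgroup
open scoped ComplexConjugate

namespace Cfsg.Agent.H511.Ore

open Cfsg.Agent.H653.Sieve Cfsg.Agent.H651.Two Cfsg.Agent.Characters.Core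
open Cfsg.Agent.H777.Ore (IsC)

universe u

variable {G : Type u} [Group G] [Finite G]

/-- **The counting lemma.** -/
theorem exists_conj_of_sum [Fintype (IrrCharacter G)] {x y g : G} {d : ℕ} {S : ℝ}
    (hS : ∑ χ : IrrCharacter G, (‖(χ : G → ℂ) x‖ * ‖(χ : G → ℂ) y‖) ^ 2 ≤ 1 + S)
    (hd : ∀ χ : IrrCharacter G, (χ : G → ℂ) ≠ 1 → (χ : G → ℂ) x ≠ 0 → (χ : G → ℂ) y ≠ 0 → d ≤ charDegree (χ : G → ℂ))
    (hg : (Nat.card (centralizer ({g} : Set G)) : ℝ) * S < (d : ℝ) ^ 2) (hd0 : 0 < d) :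
    ∃ a b : G, a * x * a⁻¹ * (b * y * b⁻¹) = g := by
  classical
  have := Fintype.ofFinite G
  by_contra hno
  push Not at hno
  have h0 : (Nat.card {p : G × G // p.1 * x * p.1⁻¹ * (p.2 * y * p.2⁻¹) = g} : ℂ) = 0 := by
    have : IsEmpty {p : G × G // p.1 * x * p.1⁻¹ * (p.2 * y * p.2⁻¹) = g} := ⟨fun p => hno p.1.1 p.1.2 p.2⟩
    rw [Nat.card_of_isEmpty, Nat.cast_zero]
  rw [Characters.ClassMul.card_conj_mul_conj] at h0
  have hG0 : (Nat.card G : ℂ) ≠ 0 := by exact_mod_cast Nat.card_pos.ne'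
  have h1 := (mul_eq_zero.1 h0).resolve_left hG0
  obtain ⟨χ₁, hχ₁⟩ : ∃ χ : IrrCharacter G, (χ : G → ℂ) = 1 := ⟨⟨1, isIrr_one⟩, rfl⟩
  rw [← Finset.add_sum_erase _ _ (Finset.mem_univ χ₁), hχ₁] at h1
  simp only [Pi.one_apply, map_one, mul_one, div_one] at h1
  have hne : ∀ χ ∈ Finset.univ.erase χ₁, (χ : G → ℂ) ≠ 1 := fun χ hχ h =>
    Finset.ne_of_mem_erase hχ (Subtype.ext (h.trans hχ₁.symm))
  -- the other terms have norm sum at least one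
  have h2 : (1 : ℝ) ≤ ∑ χ ∈ Finset.univ.erase χ₁,
      ‖(χ : G → ℂ) x * (χ : G → ℂ) y * conj ((χ : G → ℂ) g) / (χ : G → ℂ) 1‖ := by
    refine le_trans ?_ (norm_sum_le _ _)
    rw [show ∑ χ ∈ Finset.univ.erase χ₁,
      (χ : G → ℂ) x * (χ : G → ℂ) y * conj ((χ : G → ℂ) g) / (χ : G → ℂ) 1 = -1 by linear_combination h1]
    simp
  have hd1 : (0 : ℝ) < d := by exact_mod_cast hd0
  have h3 : ∀ χ ∈ Finset.univ.erase χ₁,
      ‖(χ : G → ℂ) x * (χ : G → ℂ) y * conj ((χ : G → ℂ) g) / (χ : G → ℂ) 1‖ ≤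
        (‖(χ : G → ℂ) x‖ * ‖(χ : G → ℂ) y‖) * ‖(χ : G → ℂ) g‖ / d := by
    intro χ hχ
    by_cases hx : (χ : G → ℂ) x = 0
    · rw [hx]; simp
    by_cases hy : (χ : G → ℂ) y = 0
    · rw [hy]; simp
    rw [norm_div, norm_mul, norm_mul, Complex.norm_conj]
    have h4 : ‖(χ : G → ℂ) 1‖ = charDegree (χ : G → ℂ) := by
      rw [Blocks.Knorr.charDegree_eq χ.2, Complex.norm_natCast]
    rw [h4]
    have h5 : (d : ℝ) ≤ charDegree (χ : G → ℂ) := by exact_mod_cast hd χ (hne χ hχ) hx hy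
    exact div_le_div_of_nonneg_left (by positivity) hd1 h5
  have h4 : (d : ℝ) ≤ ∑ χ ∈ Finset.univ.erase χ₁, (‖(χ : G → ℂ) x‖ * ‖(χ : G → ℂ) y‖) * ‖(χ : G → ℂ) g‖ := by
    have h5 := h2.trans (Finset.sum_le_sum h3)
    rw [← Finset.sum_div, le_div_iff₀ hd1, one_mul] at h5
    exact h5
  have h5 : (∑ χ ∈ Finset.univ.erase χ₁, (‖(χ : G → ℂ) x‖ * ‖(χ : G → ℂ) y‖) * ‖(χ : G → ℂ) g‖) ^ 2 ≤
      (∑ χ ∈ Finset.univ.erase χ₁, (‖(χ : G → ℂ) x‖ * ‖(χ : G → ℂ) y‖) ^ 2) *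
        ∑ χ ∈ Finset.univ.erase χ₁, ‖(χ : G → ℂ) g‖ ^ 2 := Finset.sum_mul_sq_le_sq_mul_sq _ _ _
  have h6 : ∑ χ ∈ Finset.univ.erase χ₁, (‖(χ : G → ℂ) x‖ * ‖(χ : G → ℂ) y‖) ^ 2 ≤ S := by
    rw [← Finset.add_sum_erase _ _ (Finset.mem_univ χ₁), hχ₁] at hS
    simp only [Pi.one_apply, norm_one, mul_one, one_pow] at hS
    linarith
  have h7 : ∑ χ ∈ Finset.univ.erase χ₁, ‖(χ : G → ℂ) g‖ ^ 2 ≤ (Nat.card (centralizer ({g} : Set G)) : ℝ) := by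
    have h8 := S0145.sum_irr_mul_conj g g
    rw [if_pos (IsConj.refl g)] at h8
    have h9 : ∑ χ : IrrCharacter G, ‖(χ : G → ℂ) g‖ ^ 2 = (Nat.card (centralizer ({g} : Set G)) : ℝ) := by
      have h10 : ((∑ χ : IrrCharacter G, ‖(χ : G → ℂ) g‖ ^ 2 : ℝ) : ℂ) =
          ((Nat.card (centralizer ({g} : Set G)) : ℝ) : ℂ) := by
        push_cast
        rw [← h8]
        refine Finset.sum_congr rfl fun χ _ => ?_
        rw [Complex.mul_conj, Complex.normSq_eq_norm_sq]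
        push_cast
        rfl
      exact_mod_cast h10
    rw [← h9]
    exact Finset.sum_le_sum_of_subset_of_nonneg (Finset.erase_subset _ _) fun χ _ _ => by positivity
  have h8 : (d : ℝ) ^ 2 ≤ S * (Nat.card (centralizer ({g} : Set G)) : ℝ) := by
    have hnn : (0 : ℝ) ≤ ∑ χ ∈ Finset.univ.erase χ₁, ‖(χ : G → ℂ) g‖ ^ 2 :=
      Finset.sum_nonneg fun χ _ => by positivity
    have hS0 : 0 ≤ S := le_trans (Finset.sum_nonneg fun χ _ => by positivity) h6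
    calc (d : ℝ) ^ 2 ≤ _ := pow_le_pow_left₀ hd1.le h4 2
      _ ≤ _ := h5
      _ ≤ S * ∑ χ ∈ Finset.univ.erase χ₁, ‖(χ : G → ℂ) g‖ ^ 2 := mul_le_mul_of_nonneg_right h6 hnn
      _ ≤ _ := mul_le_mul_of_nonneg_left h7 hS0
  linarith [mul_comm S (Nat.card (centralizer ({g} : Set G)) : ℝ)]

/-- **T1, one element.** `x` with `∑ |χ(x)|⁴ ≤ 1 + S` : every `g` with `|C(g)| S < d²` is a commutator. -/
theorem isC_of_fourth [Fintype (IrrCharacter G)] {x g : G} {d : ℕ} {S : ℝ}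
    (hS : ∑ χ : IrrCharacter G, ‖(χ : G → ℂ) x‖ ^ 4 ≤ 1 + S)
    (hd : ∀ χ : IrrCharacter G, (χ : G → ℂ) ≠ 1 → (χ : G → ℂ) x ≠ 0 → d ≤ charDegree (χ : G → ℂ))
    (hg : (Nat.card (centralizer ({g} : Set G)) : ℝ) * S < (d : ℝ) ^ 2) (hd0 : 0 < d) : IsC g := by
  have hinv : ∀ χ : IrrCharacter G, ‖(χ : G → ℂ) x⁻¹‖ = ‖(χ : G → ℂ) x‖ := fun χ => by
    rw [isCharacter_apply_inv (isIrr_isCharacter χ.2), Complex.norm_conj]
  obtain ⟨a, b, rfl⟩ := exists_conj_of_sum (x := x) (y := x⁻¹) (g := g) (d := d) (S := S)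
    (le_trans (le_of_eq (Finset.sum_congr rfl fun χ _ => by rw [hinv χ]; ring)) hS)
    (fun χ h1 h2 _ => hd χ h1 h2) hg hd0
  refine ⟨a * x * a⁻¹, b * a⁻¹, ?_⟩
  group

/-- **T1, the row theorem.** -/
theorem isC_of_data [IsSimpleGroup G] (hG : ¬ IsMulCommutative G) (N : ℕ) (hN : Nat.card G = N)
    (L : List (ℕ × ℕ)) (hL : (L.all fun pa => Nat.Prime pa.1) = true) (hLN : facProd L = N) (cd : List CD)
    (hcd : (cd.all (CD.ok N)) = true) (hx : ∀ d ∈ cd, d.Has G) {m D : ℕ} {ex : List ℕ} (hm : MinDeg G m)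
    (hex : NoDeg G ex) (c : CD) (hc : c ∈ cd) (hk : c.k = 1) (h : allDiv (D * D) (tst c.r m ex cd) L 1 = true)
    (K : ℕ) (hK : K * s4 c.r c.e c.t < 8 * (D * D)) {g : G} (hg : Nat.card (centralizer ({g} : Set G)) ≤ K) : IsC g := by
  have : Finite (IrrCharacter G) := finite_irr
  have := Fintype.ofFinite (IrrCharacter G)
  obtain ⟨x, hx1, hr, hcx, hS, hv⟩ := fourth_of_has hG hN (hx c hc) hk (List.all_eq_true.1 hcd c hc)
  have hD := degOff_of_check hG N hN L hL hLN cd hcd hx hm hex h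
  have hD0 : 0 < D := by
    rcases Nat.eq_zero_or_pos D with h0 | h0
    · rw [h0] at hK; omega
    · exact h0
  refine isC_of_fourth (x := x) (d := D) (S := (s4 c.r c.e c.t : ℝ) / 8) (by linarith) (fun χ h1 h2 => ?_) ?_ hD0
  · exact hD χ h1 fun h3 => h2 (hv χ h3)
  · have h1 : (Nat.card (centralizer ({g} : Set G)) : ℝ) ≤ K := by exact_mod_cast hg
    have h2 : ((K * s4 c.r c.e c.t : ℕ) : ℝ) < ((8 * (D * D) : ℕ) : ℝ) := by exact_mod_cast hK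
    push_cast at h2
    have h3 : (Nat.card (centralizer ({g} : Set G)) : ℝ) * (s4 c.r c.e c.t : ℝ) ≤ K * (s4 c.r c.e c.t : ℝ) :=
      mul_le_mul_of_nonneg_right h1 (Nat.cast_nonneg _)
    nlinarith

end Cfsg.Agent.H511.Ore
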