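import Cfsg.Agent.H511.Ore.Tools
import Cfsg.Agent.H651.Two.J4

/-!
# ORE (S2443), T1 for `J₄`: the elements with `|C(g)| ≤ 97221270` are commutators (helper511)
-/

set_option autoImplicit false
set_option maxRecDepth 100000

namespace Cfsg.Agent.H511.Ore.J4

open Cfsg Subgroup Cfsg.Agent.H511.Ore
open Cfsg.Agent.H653.Sieve Cfsg.Agent.H651.Two Cfsg.Agent.H777.Ore
open Cfsg.Agent.H877.IMJ4 (finJ4 simple nonab)

universe u

def fac : List (ℕ × ℕ) := [(43, 1), (37, 1), (31, 1), (29, 1), (23, 1), (11, 3), (7, 1), (5, 1), (3, 3), (2, 21)]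

theorem chk : allDiv (288144 * 288144) (tst 43 0 [] H651.Two.J4.cd) fac 1 = true := by decide +kernel

theorem chk1 : (H651.Two.J4.cd.all (CD.ok 86775571046077562880)) = true := by decide +kernel

theorem chk2 : (fac.all fun pa => Nat.Prime pa.1) = true := by
  simp only [fac, List.all_cons, List.all_nil, Bool.and_true]
  norm_num

theorem chk3 : facProd fac = 86775571046077562880 := by decide +kernel

theorem t1_j4' : T1 Spor.J4 97221270 := by
  have := finJ4
  have := simple
  refine T1.of_data nonab 86775571046077562880 H651.Two.J4.card' fac chk2 chk3 H651.Two.J4.cd chk1 H651.Two.J4.has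
    minDeg_zero noDeg_nil ⟨43, 1, 14, 3, [(0, 0), (1, 3), (14, -1), (29, 1), (42, -3)], 3, true⟩ ?_ rfl chk
    (by decide +kernel)
  simp [H651.Two.J4.cd]

/-- **T1 for `J₄`.** -/
theorem t1_j4 {S : Type u} [Group S] (h : Cfsg.Spor.IsoJ4 S) : T1 S 97221270 := by
  obtain ⟨e⟩ := h
  exact t1_j4'.congr e

end Cfsg.Agent.H511.Ore.J4
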