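import Cfsg.Agent.H511.Ore.Tools

/-!
# ORE (S2443), T1: the weighted sieve (helper511)

* `split` : the non-exceptional (`|χ(x)| = 1`, degree `± 1` mod `p`) and the exceptional (degree `± e` mod `p`)
  characters of a self-centralizing element of prime order;
* `isC_of_weight` : `∑ |χ(x)|⁴ / χ(1)² ≤ 1 + W`, `|C(g)| W < 1` : `g` is a commutator;
* `T1.of_weight` : the row theorem with different bounds for the two kinds.
-/

set_option autoImplicit false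

open Cfsg Subgroup
open scoped ComplexConjugate

namespace Cfsg.Agent.H511.Ore

open Cfsg.Agent.H653.Sieve Cfsg.Agent.H651.Two Cfsg.Agent.Characters.Core Cfsg.Agent.H777.Ore

universe u

/-- eight times the bound for the sum of the fourth powers over the exceptional characters -/
def s4x (p e t : ℕ) : ℕ :=
  if t = 1 then 8 else if t = 2 then 2 * (p + 1) ^ 2 - (p - 1) ^ 2 else 8 * (p - e) ^ 2

variable {G : Type u} [Group G] [Finite G]

/-- **The non-exceptional and the exceptional characters.** -/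
theorem split [Fintype (IrrCharacter G)] {p : ℕ} [hp : Fact p.Prime] (hp2 : p ≠ 2) {P : Sylow p G}
    (hP : Nat.card P = p) (hC : centralizer (P : Set G) = (P : Subgroup G)) {e t : ℕ}
    (he : (centralizer (P : Set G)).relIndex (normalizer (P : Set G)) = e) (ht : e * t = p - 1)
    {x : G} (hx : x ∈ P) (hx1 : x ≠ 1) :
    ∃ NE X : Finset (IrrCharacter G), Disjoint NE X ∧ NE.card = e ∧ X.card = t ∧
      (∃ χ ∈ NE, (χ : G → ℂ) = 1) ∧
      (∀ χ ∈ NE, ‖(χ : G → ℂ) x‖ = 1 ∧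
        (charDegree (χ : G → ℂ) % p = 1 ∨ charDegree (χ : G → ℂ) % p = p - 1)) ∧
      (∀ χ ∈ X, charDegree (χ : G → ℂ) % p = e ∨ charDegree (χ : G → ℂ) % p = p - e) ∧
      8 * ∑ χ ∈ X, ‖(χ : G → ℂ) x‖ ^ 4 ≤ s4x p e t ∧ ∀ χ, χ ∉ NE → χ ∉ X → (χ : G → ℂ) x = 0 := by
  classical
  have := Fintype.ofFinite G
  obtain ⟨NE, X, ε, d, S, hdis, hNE, hX, hε, hd, htriv, hv, hvX, -, hsum, hz⟩ :=
    SmallSimple.TheoremBCor.theoremB_selfCent p hp2 P hP hC e t he ht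
  have hp1 := hp.out.two_le
  have he0 : 1 ≤ e := by
    rcases Nat.eq_zero_or_pos e with h | h
    · rw [h, zero_mul] at ht; omega
    · exact h
  have hep : e ≤ p - 1 := by
    rw [← ht]
    rcases Nat.eq_zero_or_pos t with h | h
    · rw [h, mul_zero] at ht; omega
    · exact Nat.le_mul_of_pos_right e h
  -- splitting
  have hsplit : ∀ f : IrrCharacter G → ℝ, (∀ χ, χ ∉ NE → χ ∉ X → f χ = 0) →
      ∑ χ, f χ = ∑ χ ∈ NE, f χ + ∑ χ ∈ X, f χ := by
    intro f hf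
    rw [← Finset.sum_union hdis]
    symm
    refine Finset.sum_subset (Finset.subset_univ _) fun χ _ hχ => ?_
    rw [Finset.mem_union, not_or] at hχ
    exact hf χ hχ.1 hχ.2
  have h0 : ∀ χ, χ ∉ NE → χ ∉ X → (χ : G → ℂ) x = 0 := fun χ h1 h2 => (hz χ h1 h2).1 x hx hx1
  have h1 : ∀ χ ∈ NE, ‖(χ : G → ℂ) x‖ = 1 := by
    intro χ hχ
    rw [hv χ hχ x hx hx1]
    rcases hε χ hχ with h | h <;> rw [h] <;> simp
  -- the sum of the squares over `X`
  have hcx : Nat.card (centralizer ({x} : Set G)) = p := by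
    have hC' : centralizer ({x} : Set G) = (P : Subgroup G) :=
      (Blocks.CyclicOrtho.centralizer_eq P hP hx hx1).trans hC
    rw [hC']
    exact hP
  have hsq : ∑ χ ∈ X, ‖(χ : G → ℂ) x‖ ^ 2 = (p : ℝ) - e := by
    have h2 := S0145.sum_irr_mul_conj x x
    rw [if_pos (IsConj.refl x), hcx] at h2
    have h3 : ∑ χ : IrrCharacter G, ‖(χ : G → ℂ) x‖ ^ 2 = p := by
      have h4 : ((∑ χ : IrrCharacter G, ‖(χ : G → ℂ) x‖ ^ 2 : ℝ) : ℂ) = (p : ℝ) := by
        push_cast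
        rw [← h2]
        refine Finset.sum_congr rfl fun χ _ => ?_
        rw [Complex.mul_conj, Complex.normSq_eq_norm_sq]
        push_cast
        rfl
      exact_mod_cast h4
    rw [hsplit _ fun χ h1 h2 => by rw [h0 χ h1 h2]; simp, Finset.sum_congr rfl fun χ hχ => by rw [h1 χ hχ, one_pow],
      Finset.sum_const, hNE, nsmul_eq_mul, mul_one] at h3
    linarith
  -- the residues
  have hres1 : ∀ χ ∈ NE, charDegree (χ : G → ℂ) % p = 1 ∨ charDegree (χ : G → ℂ) % p = p - 1 := by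
    intro χ hχ
    obtain ⟨m, hm⟩ := SmallSimple.TheoremBCor.degree_nonexc (P := (P : Subgroup G)) hP
      (isIrr_isCharacter χ.2) (ε := ε χ) (fun y hy hy1 => hv χ hχ y hy hy1)
    rw [Blocks.Knorr.charDegree_eq χ.2] at hm
    have h3 : ((charDegree (χ : G → ℂ) : ℕ) : ℤ) = ε χ + p * ((m : ℤ) - ε χ) := by exact_mod_cast hm
    rcases hε χ hχ with h | h
    · left
      rw [h] at h3
      have h4 : ((charDegree (χ : G → ℂ) : ℕ) : ℤ) % p = 1 % p := by
        rw [h3, Int.add_mul_emod_self_left]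
      have h5 : charDegree (χ : G → ℂ) % p = 1 % p := by exact_mod_cast h4
      rw [h5, Nat.mod_eq_of_lt hp.out.one_lt]
    · right
      rw [h] at h3
      have h4 : ((charDegree (χ : G → ℂ) : ℕ) : ℤ) = ((p - 1 : ℕ) : ℤ) + p * ((m : ℤ) + 1 - 1) := by
        rw [h3, Nat.cast_sub hp.out.one_lt.le]; push_cast; ring
      have h5 : ((charDegree (χ : G → ℂ) : ℕ) : ℤ) % p = ((p - 1 : ℕ) : ℤ) % p := by
        rw [h4, Int.add_mul_emod_self_left]
      have h6 : charDegree (χ : G → ℂ) % p = (p - 1) % p := by exact_mod_cast h5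
      rw [h6, Nat.mod_eq_of_lt (by omega)]
  have hres2 : ∀ χ ∈ X, charDegree (χ : G → ℂ) % p = e ∨ charDegree (χ : G → ℂ) % p = p - e := by
    intro χ hχ
    obtain ⟨hSc, hS1, hSv⟩ := hvX χ hχ
    obtain ⟨m, hm⟩ := SmallSimple.TheoremBCor.degree_exc (P := (P : Subgroup G)) hP
      (isIrr_isCharacter χ.2) (d := d) (S := S χ) hS1 hSv
    rw [Blocks.Knorr.charDegree_eq χ.2, hSc] at hm
    have h3 : ((charDegree (χ : G → ℂ) : ℕ) : ℤ) = d * e + p * m := by exact_mod_cast hm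
    rcases hd with h | h
    · left
      rw [h, one_mul] at h3
      have h4 : ((charDegree (χ : G → ℂ) : ℕ) : ℤ) % p = (e : ℤ) % p := by
        rw [h3, Int.add_mul_emod_self_left]
      have h5 : charDegree (χ : G → ℂ) % p = e % p := by exact_mod_cast h4
      rw [h5, Nat.mod_eq_of_lt (by omega)]
    · right
      rw [h] at h3
      have h4 : ((charDegree (χ : G → ℂ) : ℕ) : ℤ) = ((p - e : ℕ) : ℤ) + p * ((m : ℤ) - 1) := by
        rw [h3, Nat.cast_sub (by omega)]; ring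
      have h5 : ((charDegree (χ : G → ℂ) : ℕ) : ℤ) % p = ((p - e : ℕ) : ℤ) % p := by
        rw [h4, Int.add_mul_emod_self_left]
      have h6 : charDegree (χ : G → ℂ) % p = (p - e) % p := by exact_mod_cast h5
      rw [h6, Nat.mod_eq_of_lt (by omega)]
  obtain ⟨χ₁, hχ₁, hχ₁', -⟩ := htriv
  have h5 : ∑ χ ∈ X, ‖(χ : G → ℂ) x‖ ^ 4 ≤ ((p : ℝ) - e) ^ 2 := by
    rw [← hsq]
    calc ∑ χ ∈ X, ‖(χ : G → ℂ) x‖ ^ 4 = ∑ χ ∈ X, (‖(χ : G → ℂ) x‖ ^ 2) ^ 2 :=
          Finset.sum_congr rfl fun χ _ => by ring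
      _ ≤ _ := sq_sum_le X _ fun χ _ => by positivity
  refine ⟨NE, X, hdis, hNE, hX, ⟨χ₁, hχ₁, hχ₁'⟩, fun χ hχ => ⟨h1 χ hχ, hres1 χ hχ⟩, hres2, ?_, h0⟩
  have hpe : ((p - e : ℕ) : ℝ) = (p : ℝ) - e := by rw [Nat.cast_sub (by omega)]
  unfold s4x
  by_cases ht1 : t = 1
  · rw [if_pos ht1]
    have h6 : (p : ℝ) - e = 1 := by
      rw [← hpe]
      have : p - e = 1 := by rw [ht1, mul_one] at ht; omega
      rw [this, Nat.cast_one]
    rw [h6] at h5
    push_cast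
    linarith
  · rw [if_neg ht1]
    by_cases ht2 : t = 2
    · rw [if_pos ht2]
      -- the two exceptional characters
      rw [ht2] at hX
      obtain ⟨Θ, Θ', hne, hXe⟩ := Finset.card_eq_two.1 hX
      have hΘ : Θ ∈ X := by rw [hXe]; simp
      have hΘ' : Θ' ∈ X := by rw [hXe]; simp
      have hone : ¬ p ∣ orderOf (1 : G) := by
        rw [orderOf_one]; exact fun h => hp.out.one_lt.ne' (Nat.dvd_one.1 h)
      have hs1 := hsum Θ hΘ 1 hone
      have hs2 := hsum Θ' hΘ' 1 hone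
      have hd0 : (d : ℂ) ≠ 0 := by rcases hd with h | h <;> rw [h] <;> simp
      have hdd : (d : ℂ) * d = 1 := by rcases hd with h | h <;> rw [h] <;> simp
      have heq : (Θ' : G → ℂ) 1 = (Θ : G → ℂ) 1 := mul_left_cancel₀ hd0 (hs2.symm.trans hs1)
      have hΘ0 : (Θ : G → ℂ) 1 ≠ 0 := by
        obtain ⟨n, hn, hn1⟩ := isIrr_apply_one Θ.2
        rw [hn1]
        exact_mod_cast hn.ne'
      have hcol : ∑ χ : IrrCharacter G, (χ : G → ℂ) x * (χ : G → ℂ) 1 = 0 := by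
        have h2 := S0145.sum_irr_mul_conj x 1
        have hnc : ¬ IsConj x 1 := fun h => hx1 (isConj_one_left.1 h)
        rw [if_neg hnc] at h2
        rw [← h2]
        refine Finset.sum_congr rfl fun χ _ => ?_
        obtain ⟨n, -, hn1⟩ := isIrr_apply_one χ.2
        rw [hn1, Complex.conj_natCast]
      have hcol2 : ∑ χ ∈ NE, (χ : G → ℂ) x * (χ : G → ℂ) 1 + ∑ χ ∈ X, (χ : G → ℂ) x * (χ : G → ℂ) 1 = 0 := by
        rw [← Finset.sum_union hdis, ← hcol]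
        refine Finset.sum_subset (Finset.subset_univ _) fun χ _ hχ => ?_
        rw [Finset.mem_union, not_or] at hχ
        rw [h0 χ hχ.1 hχ.2, zero_mul]
      rw [Finset.sum_congr rfl fun χ hχ => by rw [hv χ hχ x hx hx1], hs1, hXe, Finset.sum_pair hne, heq] at hcol2
      have hsm : (Θ : G → ℂ) x + (Θ' : G → ℂ) x = -d := by
        have : (Θ : G → ℂ) 1 * (d + ((Θ : G → ℂ) x + (Θ' : G → ℂ) x)) = 0 := by linear_combination hcol2
        have h3 := (mul_eq_zero.1 this).resolve_left hΘ0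
        linear_combination h3
      have hn : ‖(Θ : G → ℂ) x + (Θ' : G → ℂ) x‖ = 1 := by
        rw [hsm]
        rcases hd with h | h <;> rw [h] <;> simp
      set u := ‖(Θ : G → ℂ) x‖ with hu
      set v := ‖(Θ' : G → ℂ) x‖ with hv'
      have huv : (u - v) ^ 2 ≤ 1 := by
        have h3 : |u - v| ≤ 1 := by
          rw [← hn, hu, hv']
          have := abs_norm_sub_norm_le ((Θ : G → ℂ) x) (-(Θ' : G → ℂ) x)
          rwa [norm_neg, sub_neg_eq_add] at this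
        rw [← sq_abs]
        have := abs_nonneg (u - v)
        nlinarith
      have hsq' : u ^ 2 + v ^ 2 = (p : ℝ) - e := by
        rw [← hsq, hXe, Finset.sum_pair hne]
      rw [hXe, Finset.sum_pair hne, ← hu, ← hv']
      have hu0 : 0 ≤ u := norm_nonneg _
      have hv0 : 0 ≤ v := norm_nonneg _
      have hpe2 : (p : ℝ) = 2 * e + 1 := by
        have : p = 2 * e + 1 := by rw [ht2] at ht; omega
        rw [this]; push_cast; ring
      have hcast : ((2 * (p + 1) ^ 2 - (p - 1) ^ 2 : ℕ) : ℝ) =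
          (2 * ((p : ℝ) + 1) ^ 2 - ((p : ℝ) - 1) ^ 2) := by
        have hle : (p - 1) ^ 2 ≤ 2 * (p + 1) ^ 2 := by
          have : (p - 1) ^ 2 ≤ (p + 1) ^ 2 := Nat.pow_le_pow_left (by omega) 2
          omega
        have hp' : ((p - 1 : ℕ) : ℝ) = (p : ℝ) - 1 := by rw [Nat.cast_sub (by omega), Nat.cast_one]
        rw [Nat.cast_sub hle, Nat.cast_mul, Nat.cast_pow, Nat.cast_pow, hp']
        push_cast
        ring
      rw [hcast]
      -- `2 u v ≥ s - 1 = e`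
      have hs : u ^ 2 + v ^ 2 = e + 1 := by rw [hsq', hpe2]; ring
      have huv2 : (e : ℝ) ≤ 2 * (u * v) := by nlinarith
      have he00 : (0 : ℝ) ≤ e := Nat.cast_nonneg e
      have huv4 : (e : ℝ) ^ 2 ≤ 4 * (u * v) ^ 2 := by nlinarith [mul_nonneg hu0 hv0]
      have h9 : u ^ 4 + v ^ 4 = (u ^ 2 + v ^ 2) ^ 2 - 2 * (u * v) ^ 2 := by ring
      rw [h9, hs, hpe2]
      nlinarith
    · rw [if_neg ht2]
      have h7 : ((8 * (p - e) ^ 2 : ℕ) : ℝ) = 8 * ((p : ℝ) - e) ^ 2 := by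
        rw [Nat.cast_mul, Nat.cast_pow, hpe]; norm_num
      rw [h7]
      linarith


/-- **T1, weighted counting lemma.** -/
theorem isC_of_weight [Fintype (IrrCharacter G)] {x g : G} {W : ℝ}
    (hW : ∑ χ : IrrCharacter G, ‖(χ : G → ℂ) x‖ ^ 4 / (charDegree (χ : G → ℂ) : ℝ) ^ 2 ≤ 1 + W)
    (hg : (Nat.card (centralizer ({g} : Set G)) : ℝ) * W < 1) : IsC g := by
  classical
  have := Fintype.ofFinite G
  suffices h : ∃ a b : G, a * x * a⁻¹ * (b * x⁻¹ * b⁻¹) = g by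
    obtain ⟨a, b, rfl⟩ := h
    refine ⟨a * x * a⁻¹, b * a⁻¹, ?_⟩
    group
  by_contra hno
  push Not at hno
  have h0 : (Nat.card {p : G × G // p.1 * x * p.1⁻¹ * (p.2 * x⁻¹ * p.2⁻¹) = g} : ℂ) = 0 := by
    have : IsEmpty {p : G × G // p.1 * x * p.1⁻¹ * (p.2 * x⁻¹ * p.2⁻¹) = g} := ⟨fun p => hno p.1.1 p.1.2 p.2⟩
    rw [Nat.card_of_isEmpty, Nat.cast_zero]
  rw [Characters.ClassMul.card_conj_mul_conj] at h0
  have hG0 : (Nat.card G : ℂ) ≠ 0 := by exact_mod_cast Nat.card_pos.ne'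
  have h1 := (mul_eq_zero.1 h0).resolve_left hG0
  obtain ⟨χ₁, hχ₁⟩ : ∃ χ : IrrCharacter G, (χ : G → ℂ) = 1 := ⟨⟨1, isIrr_one⟩, rfl⟩
  rw [← Finset.add_sum_erase _ _ (Finset.mem_univ χ₁), hχ₁] at h1
  simp only [Pi.one_apply, map_one, mul_one, div_one] at h1
  have h2 : (1 : ℝ) ≤ ∑ χ ∈ Finset.univ.erase χ₁,
      ‖(χ : G → ℂ) x * (χ : G → ℂ) x⁻¹ * conj ((χ : G → ℂ) g) / (χ : G → ℂ) 1‖ := by
    refine le_trans ?_ (norm_sum_le _ _)
    rw [show ∑ χ ∈ Finset.univ.erase χ₁,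
      (χ : G → ℂ) x * (χ : G → ℂ) x⁻¹ * conj ((χ : G → ℂ) g) / (χ : G → ℂ) 1 = -1 by linear_combination h1]
    simp
  have h4 : (1 : ℝ) ≤ ∑ χ ∈ Finset.univ.erase χ₁,
      (‖(χ : G → ℂ) x‖ ^ 2 / (charDegree (χ : G → ℂ) : ℝ)) * ‖(χ : G → ℂ) g‖ := by
    refine h2.trans (le_of_eq (Finset.sum_congr rfl fun χ _ => ?_))
    rw [norm_div, norm_mul, norm_mul, Complex.norm_conj, isCharacter_apply_inv (isIrr_isCharacter χ.2),
      Complex.norm_conj, Blocks.Knorr.charDegree_eq χ.2, Complex.norm_natCast]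
    ring
  have h5 : (∑ χ ∈ Finset.univ.erase χ₁,
      (‖(χ : G → ℂ) x‖ ^ 2 / (charDegree (χ : G → ℂ) : ℝ)) * ‖(χ : G → ℂ) g‖) ^ 2 ≤
      (∑ χ ∈ Finset.univ.erase χ₁, (‖(χ : G → ℂ) x‖ ^ 2 / (charDegree (χ : G → ℂ) : ℝ)) ^ 2) *
        ∑ χ ∈ Finset.univ.erase χ₁, ‖(χ : G → ℂ) g‖ ^ 2 := Finset.sum_mul_sq_le_sq_mul_sq _ _ _
  have hd1 : charDegree (1 : G → ℂ) = 1 := by
    unfold charDegree
    simp
  have h6 : ∑ χ ∈ Finset.univ.erase χ₁, (‖(χ : G → ℂ) x‖ ^ 2 / (charDegree (χ : G → ℂ) : ℝ)) ^ 2 ≤ W := by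
    rw [← Finset.add_sum_erase _ _ (Finset.mem_univ χ₁), hχ₁, hd1] at hW
    simp only [Pi.one_apply, norm_one, one_pow, Nat.cast_one, div_one] at hW
    have : ∑ χ ∈ Finset.univ.erase χ₁, (‖(χ : G → ℂ) x‖ ^ 2 / (charDegree (χ : G → ℂ) : ℝ)) ^ 2 =
        ∑ χ ∈ Finset.univ.erase χ₁, ‖(χ : G → ℂ) x‖ ^ 4 / (charDegree (χ : G → ℂ) : ℝ) ^ 2 :=
      Finset.sum_congr rfl fun χ _ => by rw [div_pow, ← pow_mul]
    rw [this]
    linarith
  have h7 : ∑ χ ∈ Finset.univ.erase χ₁, ‖(χ : G → ℂ) g‖ ^ 2 ≤ (Nat.card (centralizer ({g} : Set G)) : ℝ) := by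
    have h8 := S0145.sum_irr_mul_conj g g
    rw [if_pos (IsConj.refl g)] at h8
    have h9 : ∑ χ : IrrCharacter G, ‖(χ : G → ℂ) g‖ ^ 2 = (Nat.card (centralizer ({g} : Set G)) : ℝ) := by
      have h10 : ((∑ χ : IrrCharacter G, ‖(χ : G → ℂ) g‖ ^ 2 : ℝ) : ℂ) =
          ((Nat.card (centralizer ({g} : Set G)) : ℝ) : ℂ) := by
        push_cast
        rw [← h8]
        refine Finset.sum_congr rfl fun χ _ => ?_
        rw [Complex.mul_conj, Complex.normSq_eq_norm_sq]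
        push_cast
        rfl
      exact_mod_cast h10
    rw [← h9]
    exact Finset.sum_le_sum_of_subset_of_nonneg (Finset.erase_subset _ _) fun χ _ _ => by positivity
  have hnn : (0 : ℝ) ≤ ∑ χ ∈ Finset.univ.erase χ₁, ‖(χ : G → ℂ) g‖ ^ 2 :=
    Finset.sum_nonneg fun χ _ => by positivity
  have hW0 : 0 ≤ W := le_trans (Finset.sum_nonneg fun χ _ => by positivity) h6
  have h8 : (1 : ℝ) ≤ W * (Nat.card (centralizer ({g} : Set G)) : ℝ) := by
    calc (1 : ℝ) = 1 ^ 2 := by norm_num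
      _ ≤ _ := pow_le_pow_left₀ zero_le_one h4 2
      _ ≤ _ := h5
      _ ≤ W * ∑ χ ∈ Finset.univ.erase χ₁, ‖(χ : G → ℂ) g‖ ^ 2 := mul_le_mul_of_nonneg_right h6 hnn
      _ ≤ _ := mul_le_mul_of_nonneg_left h7 hW0
  linarith [mul_comm W (Nat.card (centralizer ({g} : Set G)) : ℝ)]

end Cfsg.Agent.H511.Ore
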